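import Groth.Agent.Krr.H481.GammaExt
import Groth.Agent.Krr.H490.NilpLine
import Mathlib.RingTheory.Nilpotent.Lemmas
import Mathlib.RingTheory.Noetherian.Basic

/-!
# Elements of a lambda ring with an ample line element: nilpotence, finitely generated filtrations

Let `K` be a lambda ring with positive structure, the splitting property and an ample line element.
Every element of augmentation zero is nilpotent.  For a finite set `S` of positive elements the
filtration `GS S n`, spanned by the products of `γ^r (e - ε e)`, `e ∈ S`, of total weight at least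
`n`, is multiplicative, stable under the Adams operations (`ψ^j = j^n` on the `n`-th graded piece)
and vanishes for large `n`; every element of `F^n K` lies in some `GS S n`.
-/

set_option autoImplicit false
set_option linter.unusedSectionVars false
universe u

open Finset LambdaRing

namespace Groth.Agent.Krr.H481.AdamsFG

open Groth.Agent.Books.Lambda1 Groth.Agent.Books.Lambda2 Groth.Agent.Books.Lambda3
open Groth.Agent.Krr.H481.GammaExt Groth.Agent.Krr.H490.NilpLine

section nilpotence

variable {K : Type u} [CommRing K] [LambdaOps K] (P : PosStructure K)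

lemma pos_add_sum {ι : Type*} (s : Finset ι) (b : ι → K) (a : K) (ha : a ∈ P.pos)
    (hb : ∀ i ∈ s, b i ∈ P.pos) : a + ∑ i ∈ s, b i ∈ P.pos := by
  classical
  induction s using Finset.induction_on with
  | empty => simpa using ha
  | insert i s hi ih =>
    rw [Finset.sum_insert hi, add_comm (b i), ← add_assoc]
    exact P.add_mem _ _ (ih (fun k hk => hb k (Finset.mem_insert_of_mem hk)))
      (hb i (Finset.mem_insert_self _ _))

/-- `e - ε(e)` is nilpotent for positive `e`, in the presence of an ample line element -/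
lemma isNilpotent_pos_sub (hK : HasSplitting K P) {u : K} (hu : KRR.IsAmpleElt P u) (e : K)
    (he : e ∈ P.pos) : IsNilpotent (e - ((P.aug e).toNat : K)) := by
  obtain ⟨hul, ham⟩ := hu
  obtain ⟨n₁, h₁⟩ := ham (-e)
  obtain ⟨n₂, h₂⟩ := ham (-1)
  obtain ⟨e₁, m₁, he₁, hm₁⟩ := h₁ (max n₁ n₂) (le_max_left _ _)
  obtain ⟨e₂, m₂, he₂, hm₂⟩ := h₂ (max n₁ n₂) (le_max_right _ _)
  generalize max n₁ n₂ = n at hm₁ hm₂
  have hun : P.IsLine (u ^ n) := IsLine_pow P hul n
  have a₂ : IsNilpotent (u ^ n - 1) :=
    isNilpotent_of_neg P hun he₂ (by rw [← hm₂]; ring)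
  obtain ⟨L', -, f, hf, v, hv, hvsum⟩ := exists_split_fin P hK e he _ rfl
  have b₂ : IsNilpotent (f (u ^ n) - 1) := by
    have := a₂.map f
    rwa [map_sub, map_one] at this
  have hfu : L'.posStr.IsLine (f (u ^ n)) := IsLine_map hf hun
  have hall : ∀ i, IsNilpotent (v i - 1) := by
    intro i
    have hli : L'.posStr.IsLine (f (u ^ n) * v i) := IsLine_mul _ hfu (hv i)
    have hpos : f e₁ + ∑ k ∈ Finset.univ.erase i, f (u ^ n) * v k ∈ L'.posStr.pos :=
      pos_add_sum _ _ _ _ (hf.pos_subset _ he₁)
        (fun k _ => (IsLine_mul _ hfu (hv k)).1)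
    have hsum : f (u ^ n) * v i + ∑ k ∈ Finset.univ.erase i, f (u ^ n) * v k =
        f (u ^ n) * f e := by
      rw [← hvsum, Finset.mul_sum]
      exact Finset.add_sum_erase Finset.univ (fun k => f (u ^ n) * v k) (Finset.mem_univ i)
    have h3 : f (u ^ n) * f e = (m₁ : L'.carrier) - f e₁ := by
      have h4 : u ^ n * e = (m₁ : K) - e₁ := by linear_combination -hm₁
      rw [← map_mul, h4, map_sub, map_natCast]
    have b₁ : IsNilpotent (f (u ^ n) * v i - 1) :=
      isNilpotent_of_neg L'.posStr hli hpos (m := m₁) (by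
        linear_combination -hsum - h3)
    have h5 : v i - 1 = (f (u ^ n) * v i - 1) - (f (u ^ n) - 1) * v i := by ring
    rw [h5]
    exact (Commute.all _ _).isNilpotent_sub b₁ ((Commute.all _ _).isNilpotent_mul_right b₂)
  have hsum : f (e - ((P.aug e).toNat : K)) = ∑ i, (v i - 1) := by
    rw [map_sub, map_natCast, ← hvsum, Finset.sum_sub_distrib]
    simp
  rw [← IsNilpotent.map_iff hf.injective, hsum, ← mem_nilradical]
  exact Ideal.sum_mem _ (fun i _ => mem_nilradical.mpr (hall i))

/-- every element of augmentation zero is nilpotent, in the presence of an ample line element -/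
theorem isNilpotent_of_aug_eq_zero (hK : HasSplitting K P) {u : K} (hu : KRR.IsAmpleElt P u)
    (x : K) (hx : P.aug x = 0) : IsNilpotent x := by
  obtain ⟨a, b, ha, hb, rfl⟩ := P.exists_sub x
  have hab : P.aug a = P.aug b := by
    rw [map_sub] at hx; omega
  have h1 : a - b = (a - ((P.aug a).toNat : K)) - (b - ((P.aug b).toNat : K)) := by
    rw [hab]; ring
  rw [h1]
  exact (Commute.all _ _).isNilpotent_sub (isNilpotent_pos_sub P hK hu a ha)
    (isNilpotent_pos_sub P hK hu b hb)

/-- `γ^r` of a positive element minus its rank vanishes for `r` larger than the rank -/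
lemma gamma_pos_eq_zero (hK : HasSplitting K P) (e : K) (he : e ∈ P.pos) (r : ℕ)
    (hr : (P.aug e).toNat < r) : gamma r (e - ((P.aug e).toNat : K)) = 0 := by
  obtain ⟨L', -, f, hf, v, hv, hvsum⟩ := exists_split_fin P hK e he _ rfl
  apply hf.injective
  rw [map_gamma hf.isLambdaHom, map_sub, map_natCast, ← hvsum, gamma_sum_line _ v hv, map_zero,
    Finset.powersetCard_eq_empty.mpr (by rw [Finset.card_univ, Fintype.card_fin]; exact hr),
    Finset.sum_empty]

/-- `γ^r`, `r ≥ 1`, of a positive element minus its rank has augmentation zero -/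
lemma aug_gamma_pos (hK : HasSplitting K P) (e : K) (he : e ∈ P.pos) (r : ℕ) (hr : 1 ≤ r) :
    P.aug (gamma r (e - ((P.aug e).toNat : K))) = 0 := by
  obtain ⟨L', -, f, hf, v, hv, hvsum⟩ := exists_split_fin P hK e he _ rfl
  rw [← hf.aug_comp, map_gamma hf.isLambdaHom, map_sub, map_natCast, ← hvsum,
    gamma_sum_line _ v hv, map_sum]
  apply Finset.sum_eq_zero
  intro t ht
  rw [map_prod]
  have hc := (Finset.mem_powersetCard.mp ht).2
  obtain ⟨i, hi⟩ : t.Nonempty := by
    rw [← Finset.card_pos]; omega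
  apply Finset.prod_eq_zero hi
  rw [map_sub, map_one, (hv i).2, sub_self]

end nilpotence

section filtration

variable {K : Type u} [CommRing K] [LambdaOps K] (P : PosStructure K)

/-- products of gamma operations of `e - ε(e)`, `e ∈ S`, of total weight at least `n` -/
def genS (S : Set K) (n : ℕ) : Set K :=
  {y | ∃ (l : List (ℕ × K)), (∀ p ∈ l, p.2 ∈ S) ∧ n ≤ (l.map Prod.fst).sum ∧
        y = (l.map fun p => gamma p.1 (p.2 - ((P.aug p.2).toNat : K))).prod}

/-- the filtration attached to a set of elements -/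
def GS (S : Set K) (n : ℕ) : AddSubgroup K := AddSubgroup.closure (genS P S n)

variable {P}

lemma GS_anti {S : Set K} {a b : ℕ} (h : a ≤ b) : GS P S b ≤ GS P S a := by
  apply AddSubgroup.closure_mono
  rintro y ⟨l, hl, hs, rfl⟩
  exact ⟨l, hl, by omega, rfl⟩

lemma GS_mono {S S' : Set K} (h : S ⊆ S') (n : ℕ) : GS P S n ≤ GS P S' n := by
  apply AddSubgroup.closure_mono
  rintro y ⟨l, hl, hs, rfl⟩
  exact ⟨l, fun p hp => h (hl p hp), hs, rfl⟩

lemma genS_mul {S : Set K} {m n : ℕ} {x y : K} (hx : x ∈ genS P S m) (hy : y ∈ genS P S n) :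
    x * y ∈ genS P S (m + n) := by
  obtain ⟨l, hl, hs, rfl⟩ := hx
  obtain ⟨l', hl', hs', rfl⟩ := hy
  refine ⟨l ++ l', ?_, ?_, ?_⟩
  · intro p hp
    rcases List.mem_append.mp hp with h | h
    · exact hl p h
    · exact hl' p h
  · rw [List.map_append, List.sum_append]
    omega
  · rw [List.map_append, List.prod_append]

lemma GS_mul {S : Set K} (m n : ℕ) (x y : K) (hx : x ∈ GS P S m) (hy : y ∈ GS P S n) :
    x * y ∈ GS P S (m + n) := by
  refine AddSubgroup.closure_induction
        (p := fun x _ => x * y ∈ GS P S (m + n)) ?_ ?_ ?_ ?_ hx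
  · intro x hx
    refine AddSubgroup.closure_induction
        (p := fun y _ => x * y ∈ GS P S (m + n)) ?_ ?_ ?_ ?_ hy
    · intro y hy
      exact AddSubgroup.subset_closure (genS_mul hx hy)
    · simp
    · intro y z _ _ hy hz
      rw [mul_add]
      exact AddSubgroup.add_mem _ hy hz
    · intro y _ hy
      rw [mul_neg]
      exact AddSubgroup.neg_mem _ hy
  · simp
  · intro y z _ _ hy hz
    rw [add_mul]
    exact AddSubgroup.add_mem _ hy hz
  · intro y _ hy
    rw [neg_mul]
    exact AddSubgroup.neg_mem _ hy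

lemma GS_one {S : Set K} : (1 : K) ∈ GS P S 0 :=
  AddSubgroup.subset_closure ⟨[], by simp, by simp, by simp⟩

lemma GS_int {S : Set K} (a : ℤ) : (a : K) ∈ GS P S 0 := by
  have h := AddSubgroup.zsmul_mem _ (GS_one (P := P) (S := S)) a
  rwa [zsmul_eq_mul, mul_one] at h

lemma GS_gamma {S : Set K} {e : K} (he : e ∈ S) (r : ℕ) :
    gamma r (e - ((P.aug e).toNat : K)) ∈ GS P S r :=
  AddSubgroup.subset_closure ⟨[(r, e)], by simpa using he, by simp, by simp⟩

lemma GS_le {S : Set K} (hS : S ⊆ P.pos) (n : ℕ) : GS P S n ≤ gammaFiltration P n := by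
  rw [GS, AddSubgroup.closure_le]
  rintro y ⟨l, hl, hs, rfl⟩
  apply gens_subset
  refine ⟨l.map (fun p => (p.1, p.2 - ((P.aug p.2).toNat : K))), ?_, ?_, ?_⟩
  · intro p hp
    obtain ⟨p', hp', rfl⟩ := List.mem_map.mp hp
    exact aug_sub_toNat P _ (hS (hl p' hp'))
  · rw [List.map_map]
    exact hs
  · rw [List.map_map]
    rfl

lemma GS_int_mul {S : Set K} {n : ℕ} (a : ℤ) {x : K} (hx : x ∈ GS P S n) :
    (a : K) * x ∈ GS P S n := by
  rw [← zsmul_eq_mul]
  exact AddSubgroup.zsmul_mem _ hx a

lemma GS_nat_pow_mul {S : Set K} {n : ℕ} (a k : ℕ) {x : K} (hx : x ∈ GS P S n) :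
    (a : K) ^ k * x ∈ GS P S n := by
  have h := GS_int_mul ((a : ℤ) ^ k) hx
  rwa [Int.cast_pow, Int.cast_natCast] at h

end filtration

section gd

variable {A : Type u} [CommRing A] (G : ℕ → AddSubgroup A)
  (hG0 : (1 : A) ∈ G 0) (hmul : ∀ a b x y, x ∈ G a → y ∈ G b → x * y ∈ G (a + b))

include hG0 hmul in
lemma Gd_inv' {S T : PowerSeries A} (hS : Gd G S) (hS0 : PowerSeries.constantCoeff S = 1)
    (hST : S * T = 1) : Gd G T := by
  intro n
  induction n using Nat.strong_induction_on with
  | _ n ih =>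
    rcases Nat.eq_zero_or_pos n with rfl | hn
    · have h1 := congrArg PowerSeries.constantCoeff hST
      rw [map_mul, hS0, one_mul, map_one] at h1
      rw [PowerSeries.coeff_zero_eq_constantCoeff_apply, h1]
      exact hG0
    · have h1 := congrArg (PowerSeries.coeff n) hST
      rw [PowerSeries.coeff_mul, PowerSeries.coeff_one, if_neg (by omega),
        Finset.Nat.sum_antidiagonal_eq_sum_range_succ_mk, Finset.sum_range_succ'] at h1
      simp only [Nat.sub_zero, PowerSeries.coeff_zero_eq_constantCoeff, hS0, one_mul] at h1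
      rw [eq_neg_of_add_eq_zero_right h1]
      apply AddSubgroup.neg_mem
      apply AddSubgroup.sum_mem
      intro k hk
      have hk' := Finset.mem_range.mp hk
      have h3 := hmul (k + 1) (n - (k + 1)) _ _ (hS (k + 1)) (ih (n - (k + 1)) (by omega))
      have e : k + 1 + (n - (k + 1)) = n := by omega
      rwa [e] at h3

end gd

section cover

variable {K : Type u} [CommRing K] [LambdaOps K] (P : PosStructure K)

lemma gamma_sub_mem (a b : K) (hab : P.aug a = P.aug b)
    (r : ℕ) : gamma r (a - b) ∈ GS P {a, b} r := by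
  have h1 : a - b = (a - ((P.aug a).toNat : K)) + (-(b - ((P.aug b).toNat : K))) := by
    rw [hab]; ring
  have ga : Gd (GS P {a, b}) (gammaSeries (a - ((P.aug a).toNat : K))) := by
    intro n
    rw [coeff_gammaSeries]
    exact GS_gamma (by simp) n
  have gb : Gd (GS P {a, b}) (gammaSeries (b - ((P.aug b).toNat : K))) := by
    intro n
    rw [coeff_gammaSeries]
    exact GS_gamma (by simp) n
  have gb' := Gd_inv' _ GS_one GS_mul gb (constantCoeff_gammaSeries _) (gammaSeries_mul_neg _)
  have gab := Gd_mul _ GS_mul ga gb'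
  rw [← gammaSeries_add, ← h1] at gab
  have := gab r
  rwa [coeff_gammaSeries] at this

/-- every element of `F^n K` lies in `GS S n` for some finite set `S` of positive elements -/
lemma exists_finite_GS (n : ℕ) (x : K) (hx : x ∈ gammaFiltration P n) :
    ∃ S : Set K, S.Finite ∧ S ⊆ P.pos ∧ x ∈ GS P S n := by
  have hgen : ∀ l : List (ℕ × K), (∀ p ∈ l, P.aug p.2 = 0) →
      ∃ S : Set K, S.Finite ∧ S ⊆ P.pos ∧
        (l.map fun p => gamma p.1 p.2).prod ∈ GS P S (l.map Prod.fst).sum := by
    intro l
    induction l with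
    | nil => intro _; exact ⟨∅, Set.finite_empty, Set.empty_subset _, GS_one⟩
    | cons p l ih =>
      intro hl
      obtain ⟨S, hSf, hSp, hS⟩ := ih (fun q hq => hl q (List.mem_cons_of_mem _ hq))
      obtain ⟨a, b, ha, hb, hab⟩ := P.exists_sub p.2
      have haug : P.aug a = P.aug b := by
        have := hl p (List.mem_cons_self ..)
        rw [hab, map_sub] at this; omega
      refine ⟨{a, b} ∪ S, (Set.toFinite _).union hSf, ?_, ?_⟩
      · intro z hz
        rcases hz with hz | hz
        · rcases hz with rfl | hz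
          · exact ha
          · rw [Set.mem_singleton_iff] at hz; rw [hz]; exact hb
        · exact hSp hz
      · rw [List.map_cons, List.map_cons, List.sum_cons, List.prod_cons]
        apply GS_mul
        · rw [hab]
          exact GS_mono Set.subset_union_left _ (gamma_sub_mem P a b haug p.1)
        · exact GS_mono Set.subset_union_right _ hS
  have hpos : ∀ n ≠ 0, ∀ x ∈ gammaFiltration P n,
      ∃ S : Set K, S.Finite ∧ S ⊆ P.pos ∧ x ∈ GS P S n := by
    intro n hn x hx
    rw [filtration_of_ne_zero P hn] at hx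
    refine AddSubgroup.closure_induction
        (p := fun x _ => ∃ S : Set K, S.Finite ∧ S ⊆ P.pos ∧ x ∈ GS P S n) ?_ ?_ ?_ ?_ hx
    · rintro y ⟨l, hl, hs, rfl⟩
      obtain ⟨S, hSf, hSp, hS⟩ := hgen l hl
      exact ⟨S, hSf, hSp, GS_anti hs hS⟩
    · exact ⟨∅, Set.finite_empty, Set.empty_subset _, AddSubgroup.zero_mem _⟩
    · rintro y z _ _ ⟨S, hSf, hSp, hS⟩ ⟨S', hSf', hSp', hS'⟩
      exact ⟨S ∪ S', hSf.union hSf', Set.union_subset hSp hSp',
        AddSubgroup.add_mem _ (GS_mono Set.subset_union_left _ hS)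
          (GS_mono Set.subset_union_right _ hS')⟩
    · rintro y _ ⟨S, hSf, hSp, hS⟩
      exact ⟨S, hSf, hSp, AddSubgroup.neg_mem _ hS⟩
  by_cases hn : n = 0
  · subst hn
    have h0 : P.aug (x - (P.aug x : K)) = 0 := by simp
    have h1 := gamma_mem_filtration P h0 1
    rw [gamma_one] at h1
    obtain ⟨S, hSf, hSp, hS⟩ := hpos 1 one_ne_zero _ h1
    refine ⟨S, hSf, hSp, ?_⟩
    have e : x = (x - (P.aug x : K)) + (P.aug x : K) := by ring
    rw [e]
    exact AddSubgroup.add_mem _ (GS_anti (by omega) hS) (GS_int _)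
  · exact hpos n hn x hx

/-- the filtration attached to a finite set of positive elements vanishes in high degree -/
lemma exists_GS_eq_bot (hK : HasSplitting K P) {u : K} (hu : KRR.IsAmpleElt P u) (S : Set K)
    (hSf : S.Finite) (hSp : S ⊆ P.pos) : ∃ M : ℕ, GS P S M = ⊥ := by
  classical
  let T : Set K := ⋃ e ∈ S, (fun r => gamma r (e - ((P.aug e).toNat : K))) ''
    (Set.Icc 1 (P.aug e).toNat)
  have hTf : T.Finite := hSf.biUnion (fun e _ => (Set.finite_Icc _ _).image _)
  let I : Ideal K := Ideal.span T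
  have hIfg : I.FG := ⟨hTf.toFinset, by simp [I]⟩
  have hInil : I ≤ nilradical K := by
    rw [Ideal.span_le]
    intro y hy
    simp only [T, Set.mem_iUnion, Set.mem_image] at hy
    obtain ⟨e, he, r, hr, rfl⟩ := hy
    exact mem_nilradical.mpr (isNilpotent_of_aug_eq_zero P hK hu _
      (aug_gamma_pos P hK e (hSp he) r hr.1))
  obtain ⟨k, hk⟩ := (hIfg.isNilpotent_iff_le_nilradical).mpr hInil
  obtain ⟨R, hR⟩ : ∃ R : ℕ, ∀ e ∈ S, (P.aug e).toNat ≤ R := by
    obtain ⟨R, hR⟩ := (hSf.image (fun e => (P.aug e).toNat)).bddAbove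
    exact ⟨R, fun e he => hR ⟨e, he, rfl⟩⟩
  have hlist : ∀ l : List (ℕ × K), (∀ p ∈ l, p.2 ∈ S) →
      (l.map fun p => gamma p.1 (p.2 - ((P.aug p.2).toNat : K))).prod = 0 ∨
      ∃ t, (l.map Prod.fst).sum ≤ R * t ∧
        (l.map fun p => gamma p.1 (p.2 - ((P.aug p.2).toNat : K))).prod ∈ I ^ t := by
    intro l
    induction l with
    | nil => intro _; right; exact ⟨0, by simp, by simp⟩
    | cons p l ih =>
      intro hl
      have hpS := hl p (List.mem_cons_self ..)
      rw [List.map_cons, List.map_cons, List.sum_cons, List.prod_cons]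
      rcases ih (fun q hq => hl q (List.mem_cons_of_mem _ hq)) with h | ⟨t, ht, hmem⟩
      · left; rw [h, mul_zero]
      · rcases Nat.eq_zero_or_pos p.1 with h0 | h0
        · right
          refine ⟨t, ?_, ?_⟩
          · rw [h0, zero_add]; exact ht
          · rw [h0, gamma_zero, one_mul]; exact hmem
        · rcases Nat.lt_or_ge (P.aug p.2).toNat p.1 with h1 | h1
          · left
            rw [gamma_pos_eq_zero P hK p.2 (hSp hpS) p.1 h1, zero_mul]
          · right
            refine ⟨t + 1, ?_, ?_⟩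
            · have := hR p.2 hpS
              rw [Nat.mul_succ]
              omega
            · rw [pow_succ']
              apply Ideal.mul_mem_mul _ hmem
              apply Ideal.subset_span
              simp only [T, Set.mem_iUnion, Set.mem_image]
              exact ⟨p.2, hpS, p.1, ⟨h0, h1⟩, rfl⟩
  refine ⟨R * k + 1, ?_⟩
  rw [GS, AddSubgroup.closure_eq_bot_iff]
  rintro y ⟨l, hl, hs, rfl⟩
  rw [Set.mem_singleton_iff]
  rcases hlist l hl with h | ⟨t, ht, hmem⟩
  · exact h
  · have hkt : k ≤ t := by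
      by_contra hcon
      have h1 : R * t ≤ R * k := Nat.mul_le_mul_left _ (by omega)
      omega
    have h2 := Ideal.pow_le_pow_right hkt hmem
    rw [hk] at h2
    simpa using h2

end cover

section adams

variable {K : Type u} [CommRing K] [LambdaOps K] (P : PosStructure K) (hK : HasSplitting K P)

/-- polynomials whose coefficients lie in a filtration -/
def ReesG (G : ℕ → AddSubgroup K) (h : Polynomial K) : Prop := ∀ w, h.coeff w ∈ G w

lemma ReesG_aeval {G : ℕ → AddSubgroup K} (hint : ∀ a : ℤ, (a : K) ∈ G 0)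
    (hmul : ∀ a b x y, x ∈ G a → y ∈ G b → x * y ∈ G (a + b))
    {m : ℕ} {x : K} (hx : ∀ k, gamma k x ∈ G k) (Q : MvPolynomial (Fin m) ℤ) :
    ReesG G (MvPolynomial.aeval
      (fun i : Fin m => Polynomial.C (gamma (i + 1) x) * Polynomial.X ^ ((i : ℕ) + 1)) Q) := by
  induction Q using MvPolynomial.induction_on with
  | C a =>
    rw [MvPolynomial.aeval_C]
    have : (algebraMap ℤ (Polynomial K)) a = Polynomial.C (a : K) := by simp
    rw [this]
    intro w
    rw [Polynomial.coeff_C]
    split_ifs with h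
    · subst h; exact hint a
    · exact AddSubgroup.zero_mem _
  | add p q hp hq =>
    rw [map_add]
    intro w
    rw [Polynomial.coeff_add]
    exact AddSubgroup.add_mem _ (hp w) (hq w)
  | mul_X p i hp =>
    rw [map_mul, MvPolynomial.aeval_X]
    intro w
    rw [Polynomial.coeff_mul]
    apply AddSubgroup.sum_mem
    rintro ⟨a, b⟩ hab
    rw [Finset.mem_antidiagonal] at hab
    rw [← hab]
    refine hmul a b _ _ (hp a) ?_
    change (Polynomial.C (gamma (i + 1) x) * Polynomial.X ^ ((i : ℕ) + 1)).coeff b ∈ G b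
    rw [Polynomial.coeff_C_mul, Polynomial.coeff_X_pow]
    split_ifs with h
    · rw [mul_one, h]; exact hx _
    · rw [mul_zero]; exact AddSubgroup.zero_mem _

include hK in
/-- the key congruence for a positive element minus its rank, for a general filtration -/
lemma adams_gamma_pos_G {G : ℕ → AddSubgroup K} (hanti : ∀ a b, a ≤ b → G b ≤ G a)
    (hint : ∀ a : ℤ, (a : K) ∈ G 0)
    (hmul : ∀ a b x y, x ∈ G a → y ∈ G b → x * y ∈ G (a + b))
    (j : ℕ) (e : K) (he : e ∈ P.pos) (m : ℕ) (hm : (P.aug e).toNat = m)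
    (hgamG : ∀ k, gamma k (e - (m : K)) ∈ G k)
    (r : ℕ) :
    adams P j (gamma r (e - (m : K))) -
      (j : K) ^ r * gamma r (e - (m : K)) ∈ G (r + 1) := by
  obtain ⟨L', hKL, f, hf, u, hu, husum⟩ := exists_split_fin P hK e he m hm
  set x : K := e - (m : K) with hx
  obtain ⟨Q, hQ⟩ := exists_Q m r j
  set H : Polynomial K := MvPolynomial.aeval
      (fun i : Fin m => Polynomial.C (gamma (i + 1) x) * Polynomial.X ^ ((i : ℕ) + 1)) Q with hH
  have hRees : ReesG G H := ReesG_aeval hint hmul hgamG Q
  have hfx : f x = ∑ i, u i - (m : L'.carrier) := by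
    rw [hx, map_sub, map_natCast, husum]
  have hgam : ∀ k, f (gamma k x) =
      ∑ t ∈ Finset.powersetCard k (Finset.univ : Finset (Fin m)), ∏ i ∈ t, (u i - 1) := by
    intro k
    rw [map_gamma hf.isLambdaHom, hfx]
    exact gamma_sum_line L'.posStr u hu k
  have hmap : Polynomial.map f H = ∑ t ∈ Finset.powersetCard r (Finset.univ : Finset (Fin m)),
      ∏ i ∈ t, ((1 + Polynomial.C (u i - 1) * Polynomial.X) ^ j - 1) := by
    have h1 : Polynomial.map f H = MvPolynomial.aeval (fun i : Fin m =>
        Polynomial.C (f (gamma (i + 1) x)) * Polynomial.X ^ ((i : ℕ) + 1)) Q := by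
      have h2 : (Polynomial.mapRingHom f).comp (MvPolynomial.aeval (fun i : Fin m =>
          Polynomial.C (gamma (i + 1) x) * Polynomial.X ^ ((i : ℕ) + 1)) :
            MvPolynomial (Fin m) ℤ →ₐ[ℤ] Polynomial K).toRingHom =
          (MvPolynomial.aeval (fun i : Fin m =>
        Polynomial.C (f (gamma (i + 1) x)) * Polynomial.X ^ ((i : ℕ) + 1)) :
            MvPolynomial (Fin m) ℤ →ₐ[ℤ] Polynomial L'.carrier).toRingHom := by
        apply MvPolynomial.ringHom_ext
        · intro a
          simp
        · intro i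
          simp
      exact congrArg (fun g : MvPolynomial (Fin m) ℤ →+* Polynomial L'.carrier => g Q) h2
    have h3 : (fun i : Fin m =>
        Polynomial.C (f (gamma (i + 1) x)) * Polynomial.X ^ ((i : ℕ) + 1)) =
        fun i : Fin m => MvPolynomial.aeval
          (fun l : Fin m => Polynomial.C (u l - 1) * Polynomial.X)
          (MvPolynomial.esymm (Fin m) ℤ (i + 1)) := by
      ext1 i
      rw [hgam, MvPolynomial.esymm, map_sum, map_sum, Finset.sum_mul]
      apply Finset.sum_congr rfl
      intro t ht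
      rw [map_prod, map_prod]
      simp only [MvPolynomial.aeval_X]
      rw [Finset.prod_mul_distrib, Finset.prod_const, (Finset.mem_powersetCard.mp ht).2]
    rw [h1, h3]
    have h4 : MvPolynomial.aeval (fun i : Fin m => MvPolynomial.aeval
          (fun l : Fin m => Polynomial.C (u l - 1) * Polynomial.X)
          (MvPolynomial.esymm (Fin m) ℤ (i + 1))) Q =
        MvPolynomial.aeval
          (fun l : Fin m => Polynomial.C (u l - 1) * Polynomial.X)
          (MvPolynomial.aeval (fun i : Fin m => MvPolynomial.esymm (Fin m) ℤ (i + 1)) Q) := by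
      rw [← AlgHom.comp_apply, MvPolynomial.comp_aeval]
    rw [h4, hQ, pp, map_sum]
    apply Finset.sum_congr rfl
    intro t _
    rw [map_prod]
    apply Finset.prod_congr rfl
    intro i _
    simp
  have hmap2 : Polynomial.map f H = Polynomial.X ^ r *
      ∑ t ∈ Finset.powersetCard r (Finset.univ : Finset (Fin m)), ∏ i ∈ t, dd j (u i - 1) := by
    rw [hmap, Finset.mul_sum]
    apply Finset.sum_congr rfl
    intro t ht
    have hc := (Finset.mem_powersetCard.mp ht).2
    rw [← hc, ← Finset.prod_const, ← Finset.prod_mul_distrib]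
    apply Finset.prod_congr rfl
    intro i _
    rw [X_mul_dd]
  have hlow : ∀ w < r, H.coeff w = 0 := by
    intro w hw
    apply hf.injective
    rw [← Polynomial.coeff_map, hmap2, map_zero, Polynomial.coeff_X_pow_mul', if_neg (by omega)]
  have hr : H.coeff r = (j : K) ^ r * gamma r x := by
    apply hf.injective
    rw [← Polynomial.coeff_map, hmap2, Polynomial.coeff_X_pow_mul', if_pos le_rfl, Nat.sub_self,
      map_mul, map_pow, map_natCast, hgam, Polynomial.finsetSum_coeff, Finset.mul_sum]
    apply Finset.sum_congr rfl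
    intro t ht
    have hc := (Finset.mem_powersetCard.mp ht).2
    rw [← hc, ← Finset.prod_const, ← Finset.prod_mul_distrib]
    rw [Polynomial.coeff_zero_prod]
    apply Finset.prod_congr rfl
    intro i _
    rw [coeff_zero_dd]
  have heval : adams P j (gamma r x) = Polynomial.eval 1 H := by
    apply hf.injective
    rw [map_adams hf, hgam, ← Polynomial.eval_map_apply, hmap, map_one]
    have h5 : ∀ z, adams L'.posStr j z = adamsRingHom L'.posStr hKL j z := fun z => rfl
    rw [h5, map_sum, Polynomial.eval_finsetSum]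
    apply Finset.sum_congr rfl
    intro t _
    rw [map_prod, Polynomial.eval_prod]
    apply Finset.prod_congr rfl
    intro i _
    rw [map_sub, map_one, ← h5, adams_line _ _ (hu i)]
    simp
  rw [heval, Polynomial.eval_eq_sum_range' (n := max (H.natDegree + 1) (r + 1)) (by omega)]
  simp only [one_pow, mul_one]
  have hmem : r ∈ range (max (H.natDegree + 1) (r + 1)) := by
    rw [Finset.mem_range]; omega
  rw [← Finset.add_sum_erase _ _ hmem, hr, add_sub_cancel_left]
  apply AddSubgroup.sum_mem
  intro w hw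
  rw [Finset.mem_erase] at hw
  rcases lt_or_gt_of_ne hw.1 with h | h
  · rw [hlow w h]
    exact AddSubgroup.zero_mem _
  · exact hanti _ _ (by omega) (hRees w)

/-- `a` lies in `GS S n` and `ψ^j a ≡ j^n a` modulo `GS S (n+1)` -/
def GoodS (S : Set K) (j n : ℕ) (a : K) : Prop :=
  a ∈ GS P S n ∧ adams P j a - (j : K) ^ n * a ∈ GS P S (n + 1)

variable {P}

lemma GoodS.adams_mem {S : Set K} {j n : ℕ} {a : K} (ha : GoodS P S j n a) :
    adams P j a ∈ GS P S n := by
  have : adams P j a = (adams P j a - (j : K) ^ n * a) + (j : K) ^ n * a := by ring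
  rw [this]
  exact AddSubgroup.add_mem _ (GS_anti (by omega) ha.2) (GS_nat_pow_mul j n ha.1)

lemma GoodS.add {S : Set K} {j n : ℕ} {a b : K} (ha : GoodS P S j n a) (hb : GoodS P S j n b) :
    GoodS P S j n (a + b) := by
  refine ⟨AddSubgroup.add_mem _ ha.1 hb.1, ?_⟩
  have : adams P j (a + b) - (j : K) ^ n * (a + b) = (adams P j a - (j : K) ^ n * a) +
      (adams P j b - (j : K) ^ n * b) := by
    rw [adams_add]; ring
  rw [this]
  exact AddSubgroup.add_mem _ ha.2 hb.2

lemma GoodS.neg {S : Set K} {j n : ℕ} {a : K} (ha : GoodS P S j n a) : GoodS P S j n (-a) := by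
  refine ⟨AddSubgroup.neg_mem _ ha.1, ?_⟩
  have : adams P j (-a) - (j : K) ^ n * (-a) = -(adams P j a - (j : K) ^ n * a) := by
    have h : adams P j (-a) = - adams P j a := (adamsHom P j).map_neg a
    rw [h]; ring
  rw [this]
  exact AddSubgroup.neg_mem _ ha.2

lemma GoodS.zero (S : Set K) (j n : ℕ) : GoodS P S j n (0 : K) := by
  refine ⟨AddSubgroup.zero_mem _, ?_⟩
  have h : adams P j 0 = 0 := (adamsHom P j).map_zero
  rw [h, mul_zero, sub_zero]
  exact AddSubgroup.zero_mem _

include hK in
lemma GoodS.mul {S : Set K} {j n m : ℕ} {a b : K} (ha : GoodS P S j n a) (hb : GoodS P S j m b) :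
    GoodS P S j (n + m) (a * b) := by
  refine ⟨GS_mul _ _ _ _ ha.1 hb.1, ?_⟩
  have h : adams P j (a * b) - (j : K) ^ (n + m) * (a * b) =
      (adams P j a - (j : K) ^ n * a) * adams P j b +
        ((j : K) ^ n * a) * (adams P j b - (j : K) ^ m * b) := by
    rw [adams_mul P hK]
    ring
  rw [h]
  refine AddSubgroup.add_mem _ ?_ ?_
  · have := GS_mul _ _ _ _ ha.2 (hb.adams_mem)
    have e : n + 1 + m = n + m + 1 := by omega
    rwa [e] at this
  · have := GS_mul _ _ _ _ (GS_nat_pow_mul j n ha.1) hb.2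
    exact this

lemma GoodS.anti {S : Set K} {j n m : ℕ} (h : m ≤ n) {a : K} (ha : GoodS P S j n a) :
    GoodS P S j m a := by
  rcases Nat.eq_or_lt_of_le h with rfl | h
  · exact ha
  refine ⟨GS_anti (by omega) ha.1, ?_⟩
  exact AddSubgroup.sub_mem _ (GS_anti (by omega) (ha.adams_mem))
    (GS_nat_pow_mul _ _ (GS_anti (by omega) ha.1))

include hK in
/-- `ψ^j` acts as `j^n` on `GS S n / GS S (n+1)` -/
lemma GoodS_of_mem {S : Set K} (hS : S ⊆ P.pos) (j n : ℕ) (x : K) (hx : x ∈ GS P S n) :
    GoodS P S j n x := by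
  refine AddSubgroup.closure_induction (p := fun x _ => GoodS P S j n x) ?_ ?_ ?_ ?_ hx
  · rintro y ⟨l, hl, hs, rfl⟩
    refine GoodS.anti hs ?_
    clear hs
    induction l with
    | nil =>
      refine ⟨GS_one, ?_⟩
      simp only [List.map_nil, List.prod_nil, List.sum_nil, pow_zero, one_mul]
      rw [adams_one, sub_self]
      exact AddSubgroup.zero_mem _
    | cons p l ih =>
      rw [List.map_cons, List.map_cons, List.sum_cons, List.prod_cons]
      refine GoodS.mul hK ?_ (ih (fun q hq => hl q (List.mem_cons_of_mem _ hq)))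
      have hpS := hl p (List.mem_cons_self ..)
      exact ⟨GS_gamma hpS _, adams_gamma_pos_G P hK (fun a b h => GS_anti h) GS_int GS_mul j p.2
        (hS hpS) _ rfl (GS_gamma hpS) p.1⟩
  · exact GoodS.zero S j n
  · intro y z _ _ hy hz
    exact hy.add hz
  · intro y _ hy
    exact hy.neg

end adams

section linear

/-- Additive eigen-decomposition: `T` acts on `G m / G (m+1)` as the integer `c m`, `G M = 0`. -/
lemma exists_eigen {A : Type*} [AddCommGroup A] (G : ℕ → AddSubgroup A) (T : A →+ A) (c : ℕ → ℤ)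
    (hanti : ∀ m, G (m + 1) ≤ G m)
    (hT : ∀ m, ∀ x ∈ G m, T x - c m • x ∈ G (m + 1)) (M : ℕ) (hM : G M = ⊥)
    (hc : ∀ m n, m < n → c m ≠ c n) : ∀ (k n : ℕ), n + k = M → ∀ x ∈ G n,
      ∃ (N : ℤ) (y : ℕ → A), N ≠ 0 ∧ (∀ m, y m ∈ G m) ∧ (∀ m < n, y m = 0) ∧
        (∀ m, M ≤ m → y m = 0) ∧ N • x = ∑ m ∈ range M, y m ∧ ∀ m, T (y m) = c m • y m := by
  classical
  intro k
  induction k with
  | zero =>
    intro n hn x hx
    refine ⟨1, fun _ => 0, one_ne_zero, fun m => AddSubgroup.zero_mem _, fun _ _ => rfl,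
      fun _ _ => rfl, ?_, fun m => by simp⟩
    have hx0 : x = 0 := by
      have : n = M := by omega
      rw [this, hM, AddSubgroup.mem_bot] at hx
      exact hx
    rw [hx0]; simp
  | succ k ih =>
    intro n hn x hx
    obtain ⟨N', y', hN', hy', hlow', hhigh', hsum', heig'⟩ := ih (n + 1) (by omega) _ (hT n x hx)
    -- the product of the differences
    set D : ℤ := ∏ m ∈ Finset.Ico (n + 1) M, (c m - c n) with hD
    have hD0 : D ≠ 0 := by
      rw [hD, Finset.prod_ne_zero_iff]
      intro m hm
      have := Finset.mem_Ico.mp hm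
      have h1 := hc n m (by omega)
      omega
    set E : ℕ → ℤ := fun m => ∏ m' ∈ (Finset.Ico (n + 1) M).erase m, (c m' - c n) with hE
    have hDE : ∀ m ∈ Finset.Ico (n + 1) M, E m * (c m - c n) = D := by
      intro m hm
      rw [hE, hD, Finset.prod_erase_mul _ _ hm]
    set z : A := ∑ m ∈ Finset.Ico (n + 1) M, E m • y' m with hz
    have hsum2 : ∑ m ∈ range M, y' m = ∑ m ∈ Finset.Ico (n + 1) M, y' m := by
      symm
      apply Finset.sum_subset
      · intro m hm
        rw [Finset.mem_range]
        exact (Finset.mem_Ico.mp hm).2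
      · intro m hm hm'
        apply hlow'
        by_contra hcon
        exact hm' (Finset.mem_Ico.mpr ⟨by omega, Finset.mem_range.mp hm⟩)
    have hTz : T z - c n • z = D • (N' • (T x - c n • x)) := by
      rw [hsum', hsum2, hz, map_sum, Finset.smul_sum, Finset.smul_sum, ← Finset.sum_sub_distrib]
      apply Finset.sum_congr rfl
      intro m hm
      rw [map_zsmul, heig', ← hDE m hm, smul_smul, smul_smul, ← sub_smul]
      congr 1
      ring
    have hGmono : ∀ a b, a ≤ b → G b ≤ G a := by
      intro a b hab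
      induction b, hab using Nat.le_induction with
      | base => exact le_rfl
      | succ b _ ihb => exact (hanti b).trans ihb
    refine ⟨D * N', fun m => if m = n then (D * N') • x - z else
      (if m ∈ Finset.Ico (n + 1) M then E m • y' m else 0), mul_ne_zero hD0 hN', ?_, ?_, ?_, ?_, ?_⟩
    · intro m
      simp only
      split_ifs with h1 h2
      · subst h1
        apply AddSubgroup.sub_mem _ (AddSubgroup.zsmul_mem _ hx _)
        apply AddSubgroup.sum_mem
        intro m' hm'
        exact hGmono _ _ (by have := Finset.mem_Ico.mp hm'; omega)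
          (AddSubgroup.zsmul_mem _ (hy' m') _)
      · exact AddSubgroup.zsmul_mem _ (hy' m) _
      · exact AddSubgroup.zero_mem _
    · intro m hm
      simp only
      rw [if_neg (by omega), if_neg (by rw [Finset.mem_Ico]; omega)]
    · intro m hm
      simp only
      rw [if_neg (by omega), if_neg (by rw [Finset.mem_Ico]; omega)]
    · have hnM : n ∈ range M := by rw [Finset.mem_range]; omega
      rw [← Finset.add_sum_erase _ _ hnM, if_pos rfl]
      have h3 : ∑ m ∈ (range M).erase n, (if m = n then (D * N') • x - z else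
          (if m ∈ Finset.Ico (n + 1) M then E m • y' m else 0)) = z := by
        rw [hz]
        have h4 : ∑ m ∈ (range M).erase n, (if m = n then (D * N') • x - z else
          (if m ∈ Finset.Ico (n + 1) M then E m • y' m else 0)) =
          ∑ m ∈ (range M).erase n, (if m ∈ Finset.Ico (n + 1) M then E m • y' m else 0) := by
          apply Finset.sum_congr rfl
          intro m hm
          rw [if_neg (Finset.ne_of_mem_erase hm)]
        rw [h4, ← Finset.sum_filter]
        apply Finset.sum_congr _ (fun _ _ => rfl)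
        ext m
        rw [Finset.mem_filter, Finset.mem_erase, Finset.mem_range, Finset.mem_Ico]
        omega
      rw [h3, sub_add_cancel]
    · intro m
      simp only
      split_ifs with h1 h2
      · subst h1
        rw [map_sub, map_zsmul, smul_sub]
        have h5 : T z = c m • z + D • (N' • (T x - c m • x)) := by
          rw [← hTz]; abel
        rw [h5, smul_sub, smul_sub, ← smul_smul, ← smul_smul]
        rw [smul_comm (c m) D, smul_comm (c m) N']
        abel
      · rw [map_zsmul, heig', smul_comm]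
      · rw [map_zero, smul_zero]

end linear

section main

variable {K : Type u} [CommRing K] [LambdaOps K] (P : PosStructure K)

/-- the operator `x ↦ b ψ^j x` -/
noncomputable def Top (j : ℕ) (b : K) : K →+ K := (AddMonoidHom.mulLeft b).comp (adamsHom P j)

lemma Top_apply (j : ℕ) (b x : K) : Top P j b x = b * adams P j x := rfl

/-- **Eigen-decomposition.**  In a lambda ring with splitting and an ample line element, let `b` be
an element of nonzero augmentation and `j ≥ 2`.  A positive multiple of any `x ∈ F^n K` is a finite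
sum of eigenvectors `y m ∈ F^m K`, `m ≥ n`, of `b ψ^j`, with eigenvalue `ε(b) j^m`. -/
theorem exists_eigen_decomp (hK : HasSplitting K P) {u : K} (hu : KRR.IsAmpleElt P u) (j : ℕ)
    (hj : 2 ≤ j) (b : K) (hb : P.aug b ≠ 0) (n : ℕ) (x : K) (hx : x ∈ gammaFiltration P n) :
    ∃ (M N : ℕ) (y : ℕ → K), 1 ≤ N ∧ (∀ m, y m ∈ gammaFiltration P m) ∧ (∀ m < n, y m = 0) ∧
      (∀ m, M ≤ m → y m = 0) ∧ (N : K) * x = ∑ m ∈ range M, y m ∧
      ∀ m, b * adams P j (y m) = ((P.aug b : ℤ) : K) * (j : K) ^ m * y m := by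
  obtain ⟨S₁, hf₁, hp₁, hS₁⟩ := exists_finite_GS P n x hx
  have hb1 : b - ((P.aug b : ℤ) : K) ∈ gammaFiltration P 1 := by
    have h0 : P.aug (b - ((P.aug b : ℤ) : K)) = 0 := by simp
    have h1 := gamma_mem_filtration P h0 1
    rwa [gamma_one] at h1
  obtain ⟨S₂, hf₂, hp₂, hS₂⟩ := exists_finite_GS P 1 _ hb1
  set S := S₁ ∪ S₂ with hS
  have hSp : S ⊆ P.pos := Set.union_subset hp₁ hp₂
  have hxS : x ∈ GS P S n := GS_mono Set.subset_union_left _ hS₁
  have hbS : b - ((P.aug b : ℤ) : K) ∈ GS P S 1 := GS_mono Set.subset_union_right _ hS₂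
  have hbS0 : b ∈ GS P S 0 := by
    have e : b = (b - ((P.aug b : ℤ) : K)) + ((P.aug b : ℤ) : K) := by ring
    rw [e]
    exact AddSubgroup.add_mem _ (GS_anti (by omega) hbS) (GS_int _)
  obtain ⟨M₀, hM₀⟩ := exists_GS_eq_bot P hK hu S (hf₁.union hf₂) hSp
  set M := max M₀ n with hM
  have hMbot : GS P S M = ⊥ := by
    rw [← le_bot_iff, ← hM₀]
    exact GS_anti (le_max_left _ _)
  have hT : ∀ m, ∀ x ∈ GS P S m, Top P j b x - (P.aug b * (j : ℤ) ^ m) • x ∈ GS P S (m + 1) := by
    intro m x hx
    have h1 := GoodS_of_mem hK hSp j m x hx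
    have h2 : Top P j b x - (P.aug b * (j : ℤ) ^ m) • x =
        b * (adams P j x - (j : K) ^ m * x) +
          (b - ((P.aug b : ℤ) : K)) * ((j : K) ^ m * x) := by
      rw [Top_apply, zsmul_eq_mul]
      push_cast
      ring
    rw [h2]
    apply AddSubgroup.add_mem
    · have h3 := GS_mul _ _ _ _ hbS0 h1.2
      rwa [zero_add] at h3
    · have h3 := GS_mul _ _ _ _ hbS (GS_nat_pow_mul j m hx)
      rwa [add_comm 1 m] at h3
  have hc : ∀ m n : ℕ, m < n → P.aug b * (j : ℤ) ^ m ≠ P.aug b * (j : ℤ) ^ n := by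
    intro m n hmn h
    have h1 := mul_left_cancel₀ hb h
    have h2 : (j : ℕ) ^ m = j ^ n := by exact_mod_cast h1
    have := Nat.pow_right_injective hj h2
    omega
  obtain ⟨N, y, hN, hy, hlow, hhigh, hsum, heig⟩ := exists_eigen (GS P S) (Top P j b)
    (fun m => P.aug b * (j : ℤ) ^ m) (fun m => GS_anti (by omega)) hT M hMbot hc (M - n) n
    (by omega) x hxS
  refine ⟨M, N.natAbs, fun m => (Int.sign N) • y m, ?_, ?_, ?_, ?_, ?_, ?_⟩
  · exact Nat.one_le_iff_ne_zero.mpr (Int.natAbs_ne_zero.mpr hN)
  · intro m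
    exact AddSubgroup.zsmul_mem _ (GS_le hSp m (hy m)) _
  · intro m hm
    simp only
    rw [hlow m hm, smul_zero]
  · intro m hm
    simp only
    rw [hhigh m hm, smul_zero]
  · rw [← Finset.smul_sum, ← hsum, smul_smul, Int.sign_mul_self_eq_natAbs, zsmul_eq_mul]
    simp
  · intro m
    have h1 := heig m
    rw [Top_apply, zsmul_eq_mul] at h1
    have h2 : adams P j (Int.sign N • y m) = Int.sign N • adams P j (y m) :=
      map_zsmul (adamsHom P j) _ _
    simp only
    rw [h2, mul_smul_comm, h1, mul_smul_comm]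
    push_cast
    rfl

end main

end Groth.Agent.Krr.H481.AdamsFG
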