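import Groth.Prelude.Def_KRR
import Groth.Agent.Books.Lambda3
import Groth.Agent.S3290

/-!
# The gamma filtration of an extension generated by a line element
-/

set_option autoImplicit false
set_option linter.unusedSectionVars false
universe u

open Finset LambdaRing

namespace Groth.Agent.Krr.H481.GammaExt

open Groth.Agent.Books.Lambda1 Groth.Agent.Books.Lambda2 Groth.Agent.Books.Lambda3

section weighted

variable {K : Type u} [CommRing K] [LambdaOps K] (P : PosStructure K)

/-- polynomials whose `i`-th coefficient lies in `F^(k-i)` -/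
def W (k : ℕ) : AddSubgroup (Polynomial K) where
  carrier := {h | ∀ i, h.coeff i ∈ gammaFiltration P (k - i)}
  zero_mem' := fun i => by simp
  add_mem' := fun {a b} ha hb i => by
    rw [Polynomial.coeff_add]; exact AddSubgroup.add_mem _ (ha i) (hb i)
  neg_mem' := fun {a} ha i => by
    rw [Polynomial.coeff_neg]; exact AddSubgroup.neg_mem _ (ha i)

lemma mem_W {k : ℕ} {h : Polynomial K} :
    h ∈ W P k ↔ ∀ i, h.coeff i ∈ gammaFiltration P (k - i) := Iff.rfl

lemma W_anti {a b : ℕ} (hab : a ≤ b) : W P b ≤ W P a :=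
  fun _ hh i => filtration_anti P (by omega) (hh i)

lemma W_mul {a b : ℕ} {g h : Polynomial K} (hg : g ∈ W P a) (hh : h ∈ W P b) :
    g * h ∈ W P (a + b) := by
  intro i
  rw [Polynomial.coeff_mul]
  apply AddSubgroup.sum_mem
  rintro ⟨x, y⟩ hxy
  rw [Finset.mem_antidiagonal] at hxy
  exact filtration_anti P (by simp only at hxy; omega)
    (mul_mem_filtration P (a - x) (b - y) _ _ (hg x) (hh y))

lemma W_zero (h : Polynomial K) : h ∈ W P 0 := by
  intro i
  rw [Nat.zero_sub]
  exact mem_filtration_zero P _

lemma W_C {k : ℕ} {a : K} (ha : a ∈ gammaFiltration P k) : Polynomial.C a ∈ W P k := by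
  intro i
  rw [Polynomial.coeff_C]
  split_ifs with h
  · subst h; exact ha
  · exact AddSubgroup.zero_mem _

lemma W_X_pow (n : ℕ) : (Polynomial.X ^ n : Polynomial K) ∈ W P n := by
  intro i
  rw [Polynomial.coeff_X_pow]
  split_ifs with h
  · subst h; rw [Nat.sub_self]; exact mem_filtration_zero P _
  · exact AddSubgroup.zero_mem _

/-- division by a monic weighted polynomial preserves the weights -/
lemma exists_reduce {m : ℕ} (q : Polynomial K) (hq : q.Monic) (hdeg : q.natDegree = m)
    (hW : q ∈ W P m) (k : ℕ) : ∀ (n : ℕ) (h : Polynomial K), h.natDegree < n → h ∈ W P k →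
      ∃ h' ∈ W P k, (∀ i, m ≤ i → h'.coeff i = 0) ∧ q ∣ h - h' := by
  have hnt : Nontrivial K := P.aug.domain_nontrivial
  intro n
  induction n with
  | zero => intro h hn _; omega
  | succ n ih =>
    intro h hn hh
    by_cases hm : h.natDegree < m
    · refine ⟨h, hh, fun i hi => Polynomial.coeff_eq_zero_of_natDegree_lt (by omega), ?_⟩
      rw [sub_self]; exact dvd_zero q
    · by_cases h0 : h = 0
      · refine ⟨0, AddSubgroup.zero_mem _, by simp, ?_⟩
        rw [h0, sub_self]; exact dvd_zero q
      set d := h.natDegree with hd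
      have hc : Polynomial.C (h.coeff d) * (Polynomial.X ^ (d - m) * q) ∈ W P k := by
        have h1 := W_mul P (W_C P (hh d)) (W_mul P (W_X_pow P (d - m)) hW)
        exact W_anti P (by omega) h1
      by_cases hd0 : d = 0
      · -- then m = 0, q = 1
        have hm0 : m = 0 := by omega
        have hq1 : q = 1 := by
          rw [hm0] at hdeg
          exact hq.natDegree_eq_zero.mp hdeg
        refine ⟨0, AddSubgroup.zero_mem _, by simp, ?_⟩
        rw [hq1]; exact one_dvd _
      have hlt : (h - Polynomial.C (h.coeff d) * (Polynomial.X ^ (d - m) * q)).natDegree < n := by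
        have hdegq : (Polynomial.X ^ (d - m) * q).natDegree = d := by
          rw [Polynomial.natDegree_X_pow_mul _ hq.ne_zero, hdeg]; omega
        have hcoef : (Polynomial.X ^ (d - m) * q).coeff d = 1 := by
          have : d = m + (d - m) := by omega
          rw [this, Polynomial.coeff_X_pow_mul', if_pos (by omega)]
          have h2 : m + (d - m) - (m + (d - m) - m) = m := by omega
          rw [h2, ← hdeg]
          exact hq
        have h3 : (h - Polynomial.C (h.coeff d) * (Polynomial.X ^ (d - m) * q)).natDegree ≤ d := by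
          refine (Polynomial.natDegree_sub_le _ _).trans ?_
          refine max_le le_rfl ?_
          exact (Polynomial.natDegree_C_mul_le _ _).trans hdegq.le
        have h4 : (h - Polynomial.C (h.coeff d) * (Polynomial.X ^ (d - m) * q)).coeff d = 0 := by
          rw [Polynomial.coeff_sub, Polynomial.coeff_C_mul, hcoef, mul_one, sub_self]
        have h5 : (h - Polynomial.C (h.coeff d) * (Polynomial.X ^ (d - m) * q)).natDegree ≤ d - 1 := by
          rw [Polynomial.natDegree_le_iff_coeff_eq_zero]
          intro N hN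
          rcases Nat.lt_or_ge d N with h6 | h6
          · exact Polynomial.coeff_eq_zero_of_natDegree_lt (by omega)
          · have : N = d := by omega
            rw [this]; exact h4
        omega
      obtain ⟨h', hh', hdeg', hdvd⟩ := ih _ hlt (AddSubgroup.sub_mem _ hh hc)
      refine ⟨h', hh', hdeg', ?_⟩
      have h6 : h - h' = (h - Polynomial.C (h.coeff d) * (Polynomial.X ^ (d - m) * q) - h') +
        q * (Polynomial.C (h.coeff d) * Polynomial.X ^ (d - m)) := by ring
      rw [h6]
      exact dvd_add hdvd (dvd_mul_right _ _)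

end weighted

section relation

variable {K : Type u} [CommRing K] [LambdaOps K] (P : PosStructure K)

/-- the polynomial `Σ (-1)^i γ^i(e-m) T^(m-i)` -/
noncomputable def gq (m : ℕ) (e : K) : Polynomial K :=
  ∑ i ∈ range (m + 1), Polynomial.C ((-1 : K) ^ i * gamma i (e - (m : K))) * Polynomial.X ^ (m - i)

lemma coeff_gq (m : ℕ) (e : K) (n : ℕ) : (gq m e).coeff n =
    if n ≤ m then (-1 : K) ^ (m - n) * gamma (m - n) (e - (m : K)) else 0 := by
  rw [gq, Polynomial.finsetSum_coeff]
  simp only [Polynomial.coeff_C_mul, Polynomial.coeff_X_pow, mul_ite, mul_one, mul_zero]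
  split_ifs with h
  · rw [Finset.sum_eq_single (m - n)]
    · rw [if_pos (by omega)]
    · intro b hb hb'
      have := Finset.mem_range.mp hb
      rw [if_neg (by omega)]
    · intro h'
      exact absurd (Finset.mem_range.mpr (by omega)) h'
  · apply Finset.sum_eq_zero
    intro b hb
    have := Finset.mem_range.mp hb
    rw [if_neg (by omega)]

lemma gq_natDegree_le (m : ℕ) (e : K) : (gq m e).natDegree ≤ m := by
  rw [Polynomial.natDegree_le_iff_coeff_eq_zero]
  intro N hN
  rw [coeff_gq, if_neg (by omega)]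

lemma gq_coeff_top (m : ℕ) (e : K) : (gq m e).coeff m = 1 := by
  rw [coeff_gq, if_pos le_rfl, Nat.sub_self, gamma_zero, pow_zero, one_mul]

lemma gq_monic (m : ℕ) (e : K) : (gq m e).Monic :=
  Polynomial.monic_of_natDegree_le_of_coeff_eq_one m (gq_natDegree_le m e) (gq_coeff_top m e)

lemma gq_natDegree [Nontrivial K] (m : ℕ) (e : K) : (gq m e).natDegree = m := by
  apply le_antisymm (gq_natDegree_le m e)
  apply Polynomial.le_natDegree_of_ne_zero
  rw [gq_coeff_top]
  exact one_ne_zero

lemma gq_mem_W (e : K) (he : e ∈ P.pos) (m : ℕ) (hm : (P.aug e).toNat = m) :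
    gq m e ∈ W P m := by
  intro i
  rw [coeff_gq]
  split_ifs with h
  · apply mul_mem_filtration_left
    apply gamma_mem_filtration
    rw [← hm]
    exact aug_sub_toNat P e he
  · exact AddSubgroup.zero_mem _

/-- `gq` at `t - 1` is the polynomial `p_e` at `t` -/
lemma gq_comp (e : K) (he : e ∈ P.pos) (m : ℕ) (hm : (P.aug e).toNat = m) :
    (gq m e).comp (Polynomial.X - 1) = KRR.extPoly P e := by
  have h := Groth.Agent.S3290.result K P e he
  rw [hm] at h
  have h2 := congrArg (fun p : Polynomial K => p.comp (1 - Polynomial.X)) h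
  simp only [Polynomial.sum_comp, Polynomial.mul_comp, Polynomial.C_comp,
    Polynomial.pow_comp, Polynomial.X_comp, Polynomial.sub_comp, Polynomial.one_comp] at h2
  rw [gq, Polynomial.sum_comp, KRR.extPoly, hm]
  simp only [Polynomial.mul_comp, Polynomial.C_comp, Polynomial.pow_comp, Polynomial.X_comp]
  have e1 : (∑ i ∈ range (m + 1), Polynomial.C ((-1 : K) ^ i * gamma i (e - (m : K))) *
      (Polynomial.X - 1) ^ (m - i)) = (-1) ^ m * ∑ i ∈ range (m + 1),
      Polynomial.C (gamma i (e - (m : K))) * (1 - Polynomial.X) ^ (m - i) := by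
    rw [Finset.mul_sum]
    apply Finset.sum_congr rfl
    intro i hi
    have hi' := Finset.mem_range.mp hi
    have h3 : ((-1 : Polynomial K)) ^ m = (-1) ^ i * (-1) ^ (m - i) := by
      rw [← pow_add]; congr 1; omega
    have h4 : (Polynomial.X - 1 : Polynomial K) ^ (m - i) =
      (-1) ^ (m - i) * (1 - Polynomial.X) ^ (m - i) := by
      rw [← mul_pow]; congr 1; ring
    rw [h3, h4, map_mul, map_pow, map_neg, map_one]
    ring
  have e2 : (∑ i ∈ range (m + 1), Polynomial.C ((-1 : K) ^ i * LambdaOps.lam i e) *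
      Polynomial.X ^ (m - i)) = (-1) ^ m * ∑ i ∈ range (m + 1),
      Polynomial.C (LambdaOps.lam i e) * (1 - Polynomial.X - 1) ^ (m - i) := by
    rw [Finset.mul_sum]
    apply Finset.sum_congr rfl
    intro i hi
    have hi' := Finset.mem_range.mp hi
    have h3 : ((-1 : Polynomial K)) ^ m = (-1) ^ i * (-1) ^ (m - i) := by
      rw [← pow_add]; congr 1; omega
    have h4 : (1 - Polynomial.X - 1 : Polynomial K) ^ (m - i) =
      (-1) ^ (m - i) * Polynomial.X ^ (m - i) := by
      rw [← mul_pow]; congr 1; ring
    have h5 : ((-1 : Polynomial K)) ^ (m - i) * (-1) ^ (m - i) = 1 := by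
      rw [← mul_pow]; simp
    rw [h3, h4, map_mul, map_pow, map_neg, map_one]
    linear_combination (-((-1) ^ i * Polynomial.C (LambdaOps.lam i e) *
      Polynomial.X ^ (m - i))) * h5
  rw [e1, e2, h2]

end relation

section lineMul

variable {K : Type u} [CommRing K] [LambdaOps K]

lemma map_gammaSeries {K' : Type u} [CommRing K'] [LambdaOps K'] {f : K →+* K'}
    (hf : IsLambdaHom f) (x : K) : PowerSeries.map f (gammaSeries x) = gammaSeries (f x) := by
  ext n
  rw [PowerSeries.coeff_map, coeff_gammaSeries, coeff_gammaSeries, map_gamma hf]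

lemma map_injective_powerSeries {A B : Type*} [CommRing A] [CommRing B] {f : A →+* B}
    (hf : Function.Injective f) : Function.Injective (PowerSeries.map f) := by
  intro a b hab
  ext n
  apply hf
  rw [← PowerSeries.coeff_map, ← PowerSeries.coeff_map, hab]

/-- gamma series of (sum of line elements) times a line element -/
lemma gammaSeries_sum_mul_line (P : PosStructure K) {q : ℕ} (u : Fin q → K)
    (hu : ∀ i, P.IsLine (u i)) (l : K) (hl : P.IsLine l) :
    gammaSeries ((∑ i, u i) * l - (q : K)) =
      ∑ j ∈ range (q + 1), PowerSeries.C (gamma j (∑ i, u i - (q : K))) *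
        (PowerSeries.C l * PowerSeries.X) ^ j *
        (1 + PowerSeries.C (l - 1) * PowerSeries.X) ^ (q - j) := by
  have h1 : (∑ i, u i) * l - (q : K) = ∑ i, (u i * l - 1) := by
    rw [Finset.sum_sub_distrib, Finset.sum_mul]; simp
  rw [h1, gammaSeries_sum]
  have h2 : ∏ i : Fin q, gammaSeries (u i * l - 1) =
      ∏ i : Fin q, (PowerSeries.C (u i - 1) * (PowerSeries.C l * PowerSeries.X) +
        (1 + PowerSeries.C (l - 1) * PowerSeries.X)) := by
    apply Finset.prod_congr rfl
    intro i _
    rw [gammaSeries_line_sub_one P _ (IsLine_mul P (hu i) hl)]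
    simp only [map_sub, map_mul, map_one]
    ring
  rw [h2, Finset.prod_add, Finset.sum_powerset]
  rw [Finset.card_univ, Fintype.card_fin]
  apply Finset.sum_congr rfl
  intro j _
  rw [gamma_sum_line P u hu, map_sum, Finset.sum_mul, Finset.sum_mul]
  apply Finset.sum_congr rfl
  intro t ht
  have hc := (Finset.mem_powersetCard.mp ht).2
  rw [Finset.prod_mul_distrib, Finset.prod_const, Finset.prod_const, map_prod, hc,
    Finset.card_sdiff_of_subset (Finset.subset_univ t), Finset.card_univ, Fintype.card_fin, hc]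

/-- gamma series of a positive element times a line element -/
lemma gammaSeries_pos_mul_line (P : PosStructure K) (hK : HasSplitting K P) (x : K)
    (hx : x ∈ P.pos) (q : ℕ) (hq : (P.aug x).toNat = q) (l : K) (hl : P.IsLine l) :
    gammaSeries (x * l - (q : K)) =
      ∑ j ∈ range (q + 1), PowerSeries.C (gamma j (x - (q : K))) *
        (PowerSeries.C l * PowerSeries.X) ^ j *
        (1 + PowerSeries.C (l - 1) * PowerSeries.X) ^ (q - j) := by
  obtain ⟨L', -, f, hf, u, hu, husum⟩ := exists_split_fin P hK x hx q hq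
  apply map_injective_powerSeries hf.injective
  rw [map_gammaSeries hf.isLambdaHom, map_sub, map_mul, map_natCast, ← husum,
    gammaSeries_sum_mul_line L'.posStr u hu (f l) (IsLine_map hf hl), map_sum]
  apply Finset.sum_congr rfl
  intro j _
  simp only [map_mul, map_pow, map_add, map_one, PowerSeries.map_C, PowerSeries.map_X, map_sub]
  rw [map_gamma hf.isLambdaHom, map_sub, map_natCast, ← husum]

end lineMul

section graded

variable {A : Type u} [CommRing A] (G : ℕ → AddSubgroup A)
  (hG0 : ∀ a, a ∈ G 0) (hmul : ∀ a b x y, x ∈ G a → y ∈ G b → x * y ∈ G (a + b))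

/-- power series with `n`-th coefficient in `G n` -/
def Gd (S : PowerSeries A) : Prop := ∀ n, PowerSeries.coeff n S ∈ G n

include hmul in
lemma Gd_mul {S T : PowerSeries A} (hS : Gd G S) (hT : Gd G T) : Gd G (S * T) := by
  intro n
  rw [PowerSeries.coeff_mul]
  apply AddSubgroup.sum_mem
  rintro ⟨a, b⟩ hab
  rw [Finset.mem_antidiagonal] at hab
  rw [← hab]
  exact hmul a b _ _ (hS a) (hT b)

lemma Gd_add {S T : PowerSeries A} (hS : Gd G S) (hT : Gd G T) : Gd G (S + T) := by
  intro n
  rw [map_add]
  exact AddSubgroup.add_mem _ (hS n) (hT n)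

lemma Gd_sum {ι : Type*} (s : Finset ι) (F : ι → PowerSeries A) (h : ∀ i ∈ s, Gd G (F i)) :
    Gd G (∑ i ∈ s, F i) := by
  intro n
  rw [map_sum]
  exact AddSubgroup.sum_mem _ (fun i hi => h i hi n)

lemma Gd_C_mul_X_pow {n : ℕ} {a : A} (ha : a ∈ G n) :
    Gd G (PowerSeries.C a * PowerSeries.X ^ n) := by
  intro i
  rw [PowerSeries.coeff_C_mul, PowerSeries.coeff_X_pow]
  split_ifs with h
  · subst h; rwa [mul_one]
  · rw [mul_zero]; exact AddSubgroup.zero_mem _

include hG0 in
lemma Gd_C (a : A) : Gd G (PowerSeries.C a) := by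
  have := Gd_C_mul_X_pow G (hG0 a)
  rwa [pow_zero, mul_one] at this

include hG0 in
lemma Gd_one : Gd G (1 : PowerSeries A) := by
  have := Gd_C G hG0 1
  rwa [map_one] at this

include hG0 hmul in
lemma Gd_pow {S : PowerSeries A} (hS : Gd G S) (n : ℕ) : Gd G (S ^ n) := by
  induction n with
  | zero => rw [pow_zero]; exact Gd_one G hG0
  | succ n ih => rw [pow_succ]; exact Gd_mul G hmul ih hS

include hG0 hmul in
lemma Gd_inv {S T : PowerSeries A} (hS : Gd G S) (hS0 : PowerSeries.constantCoeff S = 1)
    (hST : S * T = 1) : Gd G T := by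
  intro n
  induction n using Nat.strong_induction_on with
  | _ n ih =>
    rcases Nat.eq_zero_or_pos n with rfl | hn
    · exact hG0 _
    · have h1 := congrArg (PowerSeries.coeff n) hST
      rw [PowerSeries.coeff_mul, PowerSeries.coeff_one, if_neg (by omega),
        Finset.Nat.sum_antidiagonal_eq_sum_range_succ_mk, Finset.sum_range_succ'] at h1
      simp only [Nat.sub_zero, PowerSeries.coeff_zero_eq_constantCoeff, hS0, one_mul] at h1
      rw [eq_neg_of_add_eq_zero_right h1]
      apply AddSubgroup.neg_mem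
      apply AddSubgroup.sum_mem
      intro k hk
      have hk' := Finset.mem_range.mp hk
      have h3 := hmul (k + 1) (n - (k + 1)) _ _ (hS (k + 1)) (ih (n - (k + 1)) (by omega))
      have e : k + 1 + (n - (k + 1)) = n := by omega
      rwa [e] at h3

end graded

section main

variable {K K' : Type u} [CommRing K] [LambdaOps K] [CommRing K'] [LambdaOps K']
  (P : PosStructure K) (P' : PosStructure K') (f : K →+* K')

/-- the filtration `Σ_i F^(k-i)K (l-1)^i` on `K'` -/
noncomputable def GG (l : K') (k : ℕ) : AddSubgroup K' :=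
  (W P k).map (Polynomial.eval₂RingHom f (l - 1)).toAddMonoidHom

variable {P P' f}

lemma mem_GG {l : K'} {k : ℕ} {x : K'} :
    x ∈ GG P f l k ↔ ∃ h ∈ W P k, Polynomial.eval₂ f (l - 1) h = x := Iff.rfl

lemma GG_mul {l : K'} (a b : ℕ) (x y : K') (hx : x ∈ GG P f l a) (hy : y ∈ GG P f l b) :
    x * y ∈ GG P f l (a + b) := by
  obtain ⟨g, hg, rfl⟩ := hx
  obtain ⟨h, hh, rfl⟩ := hy
  exact ⟨g * h, W_mul P hg hh, (Polynomial.eval₂RingHom f (l - 1)).map_mul g h⟩

lemma GG_anti {l : K'} {a b : ℕ} (hab : a ≤ b) : GG P f l b ≤ GG P f l a :=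
  AddSubgroup.map_mono (W_anti P hab)

lemma GG_of_mem {l : K'} {k : ℕ} {a : K} (ha : a ∈ gammaFiltration P k) : f a ∈ GG P f l k :=
  ⟨Polynomial.C a, W_C P ha, by simp⟩

lemma GG_pow {l : K'} (n : ℕ) : (l - 1) ^ n ∈ GG P f l n :=
  ⟨Polynomial.X ^ n, W_X_pow P n, by simp⟩

lemma GG_zero {l : K'} (hgen : Function.Surjective (Polynomial.eval₂RingHom f l)) (x : K') :
    x ∈ GG P f l 0 := by
  obtain ⟨h, rfl⟩ := hgen x
  refine ⟨h.comp (Polynomial.X + 1), W_zero P _, ?_⟩
  change Polynomial.eval₂ f (l - 1) (h.comp (Polynomial.X + 1)) = Polynomial.eval₂ f l h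
  rw [Polynomial.eval₂_comp]
  simp

/-- the filtration by `GG` is contained in the gamma filtration -/
lemma sup_le_gammaFiltration (hf : IsExtension P P' f) {l : K'} (hl : P'.IsLine l) (i k : ℕ)
    (a : K) (ha : a ∈ gammaFiltration P (k - i)) : f a * (l - 1) ^ i ∈ gammaFiltration P' k := by
  have h1 : f a ∈ gammaFiltration P' (k - i) := by
    by_cases hki : k - i = 0
    · rw [hki]; exact mem_filtration_zero P' _
    rw [filtration_of_ne_zero P hki] at ha
    refine AddSubgroup.closure_induction
        (p := fun x _ => f x ∈ gammaFiltration P' (k - i)) ?_ ?_ ?_ ?_ ha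
    · rintro y ⟨l, hl, hs, rfl⟩
      apply gens_subset
      refine ⟨l.map (fun p => (p.1, f p.2)), ?_, ?_, ?_⟩
      · intro p hp
        obtain ⟨p', hp', rfl⟩ := List.mem_map.mp hp
        rw [hf.aug_comp]
        exact hl p' hp'
      · rw [List.map_map]
        exact hs
      · rw [map_list_prod, List.map_map, List.map_map]
        congr 1
        apply List.map_congr_left
        intro p _
        exact map_gamma hf.isLambdaHom p.1 p.2
    · rw [map_zero]; exact AddSubgroup.zero_mem _
    · intro y z _ _ hy hz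
      rw [map_add]; exact AddSubgroup.add_mem _ hy hz
    · intro y _ hy
      rw [map_neg]; exact AddSubgroup.neg_mem _ hy
  have h2 : (l - 1) ^ i ∈ gammaFiltration P' i := by
    have h3 : l - 1 ∈ gammaFiltration P' 1 := by
      have := gamma_mem_filtration P' (x := l - 1) (by rw [map_sub, hl.2, map_one, sub_self]) 1
      rwa [gamma_one] at this
    induction i with
    | zero => exact mem_filtration_zero P' _
    | succ i ih =>
      rw [pow_succ]
      clear ih
      have key : ∀ n : ℕ, (l - 1) ^ n ∈ gammaFiltration P' n := by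
        intro n
        induction n with
        | zero => exact mem_filtration_zero P' _
        | succ n ih => rw [pow_succ]; exact mul_mem_filtration P' _ _ _ _ ih h3
      exact mul_mem_filtration P' _ _ _ _ (key i) h3
  exact filtration_anti P' (by omega) (mul_mem_filtration P' _ _ _ _ h1 h2)

/-- `γ^n (f(a) l^i - ε a) ∈ GG n` for positive `a` -/
lemma Gd_pos (hf : IsExtension P P' f) (hK' : HasSplitting K' P') {l : K'}
    (hl : P'.IsLine l) (hgen : Function.Surjective (Polynomial.eval₂RingHom f l))
    (a : K) (ha : a ∈ P.pos) (i : ℕ) :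
    Gd (GG P f l) (gammaSeries (f a * l ^ i - ((P.aug a : ℤ) : K'))) := by
  have h0 := GG_zero (P := P) hgen
  have hm := GG_mul (P := P) (f := f) (l := l)
  have haug : (P'.aug (f a)).toNat = (P.aug a).toNat := by rw [hf.aug_comp]
  have hpos := P.aug_pos a ha
  have hcast : ((P.aug a : ℤ) : K') = (((P.aug a).toNat : ℕ) : K') := by
    have h8 : (P.aug a) = (((P.aug a).toNat : ℕ) : ℤ) := by omega
    exact (congrArg (fun z : ℤ => (z : K')) h8).trans (Int.cast_natCast _)
  rw [hcast, gammaSeries_pos_mul_line P' hK' (f a) (hf.pos_subset a ha) _ haug (l ^ i)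
    (IsLine_pow P' hl i)]
  apply Gd_sum
  intro j _
  apply Gd_mul _ hm
  · have h1 : PowerSeries.C (gamma j (f a - (((P.aug a).toNat : ℕ) : K'))) *
        (PowerSeries.C (l ^ i) * PowerSeries.X) ^ j =
        PowerSeries.C (gamma j (f a - (((P.aug a).toNat : ℕ) : K')) * (l ^ i) ^ j) *
          PowerSeries.X ^ j := by
      rw [mul_pow, map_mul, ← map_pow]; ring
    rw [h1]
    apply Gd_C_mul_X_pow
    have h2 : gamma j (f a - (((P.aug a).toNat : ℕ) : K')) =
        f (gamma j (a - (((P.aug a).toNat : ℕ) : K))) := by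
      rw [map_gamma hf.isLambdaHom, map_sub, map_natCast]
    rw [h2]
    have h3 := hm j 0 _ _ (GG_of_mem (f := f) (l := l) (gamma_mem_filtration P
      (aug_sub_toNat P a ha) j)) (h0 ((l ^ i) ^ j))
    rwa [add_zero] at h3
  · apply Gd_pow _ h0 hm
    apply Gd_add _ (Gd_one _ h0)
    have h4 : l ^ i - 1 ∈ GG P f l 1 := by
      have h5 : l ^ i - 1 = (l - 1) ^ 1 * ∑ j ∈ range i, l ^ j := by
        rw [pow_one, mul_geom_sum]
      rw [h5]
      have h6 := hm 1 0 _ _ (GG_pow (P := P) (f := f) (l := l) 1) (h0 (∑ j ∈ range i, l ^ j))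
      rwa [add_zero] at h6
    have h7 := Gd_C_mul_X_pow (GG P f l) h4
    rwa [pow_one] at h7

/-- the additive subgroup of all `x` with `γ^n (x - ε x) ∈ GG n` for all `n` -/
noncomputable def TT (P : PosStructure K) (P' : PosStructure K') (f : K →+* K') (l : K')
    (hgen : Function.Surjective (Polynomial.eval₂RingHom f l)) :
    AddSubgroup K' where
  carrier := {x | Gd (GG P f l) (gammaSeries (x - ((P'.aug x : ℤ) : K')))}
  zero_mem' := by
    change Gd _ _
    rw [map_zero, Int.cast_zero, sub_zero, gammaSeries_zero]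
    exact Gd_one _ (GG_zero hgen)
  add_mem' := fun {a b} ha hb => by
    change Gd _ _
    have h1 : a + b - ((P'.aug (a + b) : ℤ) : K') =
        (a - ((P'.aug a : ℤ) : K')) + (b - ((P'.aug b : ℤ) : K')) := by
      rw [map_add, Int.cast_add]; ring
    rw [h1, gammaSeries_add]
    exact Gd_mul _ GG_mul ha hb
  neg_mem' := fun {a} ha => by
    change Gd _ _
    have h1 : -a - ((P'.aug (-a) : ℤ) : K') = -(a - ((P'.aug a : ℤ) : K')) := by
      rw [map_neg, Int.cast_neg]; ring
    rw [h1]
    exact Gd_inv _ (GG_zero hgen) GG_mul ha (constantCoeff_gammaSeries _)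
      (gammaSeries_mul_neg _)

lemma mem_TT (hf : IsExtension P P' f) (hK' : HasSplitting K' P') {l : K'}
    (hl : P'.IsLine l) (hgen : Function.Surjective (Polynomial.eval₂RingHom f l)) (x : K') :
    x ∈ TT P P' f l hgen := by
  obtain ⟨h, rfl⟩ := hgen x
  change Polynomial.eval₂ f l h ∈ _
  induction h using Polynomial.induction_on' with
  | add p q hp hq => rw [Polynomial.eval₂_add]; exact AddSubgroup.add_mem _ hp hq
  | monomial n a =>
    rw [Polynomial.eval₂_monomial]
    obtain ⟨b, c, hb, hc, rfl⟩ := P.exists_sub a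
    rw [map_sub, sub_mul]
    have key : ∀ b ∈ P.pos, f b * l ^ n ∈ TT P P' f l hgen := by
      intro b hb
      change Gd _ _
      have h1 : P'.aug (f b * l ^ n) = P.aug b := by
        rw [map_mul, map_pow, hl.2, one_pow, mul_one, hf.aug_comp]
      rw [h1]
      exact Gd_pos hf hK' hl hgen b hb n
    exact AddSubgroup.sub_mem _ (key b hb) (key c hc)

/-- the gamma filtration of `K'` is contained in `GG` -/
lemma gammaFiltration_le_GG (hf : IsExtension P P' f) (hK' : HasSplitting K' P') {l : K'}
    (hl : P'.IsLine l) (hgen : Function.Surjective (Polynomial.eval₂RingHom f l)) (k : ℕ) :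
    gammaFiltration P' k ≤ GG P f l k := by
  by_cases hk : k = 0
  · subst hk
    intro x _
    exact GG_zero hgen x
  rw [filtration_of_ne_zero P' hk, AddSubgroup.closure_le]
  rintro y ⟨L, hL, hs, rfl⟩
  apply GG_anti hs
  clear hs
  induction L with
  | nil => exact GG_zero hgen _
  | cons p L ih =>
    rw [List.map_cons, List.map_cons, List.sum_cons, List.prod_cons]
    refine GG_mul _ _ _ _ ?_ (ih (fun q hq => hL q (List.mem_cons_of_mem _ hq)))
    have h1 := mem_TT hf hK' hl hgen p.2
    have h2 : Gd (GG P f l) (gammaSeries (p.2 - ((P'.aug p.2 : ℤ) : K'))) := h1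
    rw [hL p (List.mem_cons_self ..), Int.cast_zero, sub_zero] at h2
    have h3 := h2 p.1
    rwa [coeff_gammaSeries] at h3

/-- The gamma filtration of an extension `K'` of `K` generated by a line element `l` which is a root
of the polynomial `p_e` of a positive element `e` of rank `r + 1`. -/
theorem gammaFiltration_eq (hf : IsExtension P P' f) (hK' : HasSplitting K' P') {l : K'}
    (hl : P'.IsLine l) (hgen : Function.Surjective (Polynomial.eval₂RingHom f l))
    (e : K) (he : e ∈ P.pos) (r : ℕ) (hr : P.aug e = r + 1)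
    (hrel : Polynomial.eval₂ f l (KRR.extPoly P e) = 0) (k : ℕ) :
    gammaFiltration P' k = ⨆ i ∈ Finset.range (r + 1), AddSubgroup.map
        ((AddMonoidHom.mulRight ((l - 1) ^ i)).comp f.toAddMonoidHom)
        (gammaFiltration P (k - i)) := by
  apply le_antisymm
  · intro x hx
    obtain ⟨h, hh, rfl⟩ := gammaFiltration_le_GG hf hK' hl hgen k hx
    have hm : (P.aug e).toNat = r + 1 := by omega
    have hnt : Nontrivial K := P.aug.domain_nontrivial
    obtain ⟨h', hh', hdeg, hdvd⟩ := exists_reduce P (gq (r + 1) e) (gq_monic _ _)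
      (gq_natDegree _ _) (gq_mem_W P e he _ hm) k (h.natDegree + 1) h (by omega) hh
    have hq0 : Polynomial.eval₂ f (l - 1) (gq (r + 1) e) = 0 := by
      rw [← hrel, ← gq_comp P e he _ hm, Polynomial.eval₂_comp]
      simp
    have h1 : Polynomial.eval₂ f (l - 1) h = Polynomial.eval₂ f (l - 1) h' := by
      obtain ⟨c, hc⟩ := hdvd
      have h2 := congrArg (Polynomial.eval₂ f (l - 1)) hc
      rw [Polynomial.eval₂_sub, Polynomial.eval₂_mul, hq0, zero_mul] at h2
      exact sub_eq_zero.mp h2
    change Polynomial.eval₂ f (l - 1) h ∈ _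
    rw [h1, Polynomial.eval₂_eq_sum_range' f (n := r + 1)]
    · apply AddSubgroup.sum_mem
      intro i hi
      refine AddSubgroup.mem_iSup_of_mem i ?_
      refine AddSubgroup.mem_iSup_of_mem hi ?_
      exact ⟨h'.coeff i, hh' i, rfl⟩
    · by_contra hcon
      rw [not_lt] at hcon
      have h3 : h'.natDegree ≠ 0 := by omega
      have h4 := hdeg h'.natDegree (by omega)
      rw [Polynomial.coeff_natDegree, Polynomial.leadingCoeff_eq_zero] at h4
      rw [h4] at h3
      exact h3 Polynomial.natDegree_zero
  · refine iSup₂_le ?_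
    intro i _
    rintro _ ⟨a, ha, rfl⟩
    exact sup_le_gammaFiltration hf hl i k a ha

end main

end Groth.Agent.Krr.H481.GammaExt
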